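import Groth.Prelude.Def_CAlgX
import Mathlib.RingTheory.FinitePresentation
import Mathlib.Algebra.Module.FinitePresentation
import Mathlib.Algebra.Module.LocalizedModule.Submodule
import Mathlib.RingTheory.TensorProduct.Basic
import Mathlib.RingTheory.Localization.Integer
import Mathlib.RingTheory.FiniteStability
import Mathlib.LinearAlgebra.TensorProduct.Pi
import Mathlib.RingTheory.TensorProduct.IsBaseChangePi

/-!
# Finitely presented models of maps between essentially finitely presented algebras
-/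

set_option autoImplicit false

universe u

open TensorProduct

namespace Groth.Agent.H21.EssFP.Model

/-- A map of essentially finitely presented algebras is modelled on finitely presented algebras. -/
theorem exists_model {R S S' : Type u} [CommRing R] [CommRing S] [CommRing S'] [Algebra R S]
    [Algebra S S'] [Algebra R S'] [IsScalarTower R S S']
    (S₀ : Type u) [CommRing S₀] [Algebra R S₀] [Algebra S₀ S] [IsScalarTower R S₀ S]
    [Algebra.FinitePresentation R S₀]
    (S₁ : Type u) [CommRing S₁] [Algebra R S₁] [Algebra S₁ S'] [IsScalarTower R S₁ S']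
    (M₁ : Submonoid S₁) [IsLocalization M₁ S'] [Algebra.FinitePresentation R S₁] :
    ∃ (C : Type u) (_ : CommRing C) (_ : Algebra R C) (_ : Algebra S₀ C) (_ : Algebra C S')
      (_ : IsScalarTower R S₀ C) (M : Submonoid C),
      Algebra.FinitePresentation R C ∧ IsLocalization M S' ∧
      ∀ x : S₀, algebraMap C S' (algebraMap S₀ C x) = algebraMap S S' (algebraMap S₀ S x) := by
  classical
  let T := S₀ ⊗[R] S₁
  let i₀ : S₀ →ₐ[R] T := Algebra.TensorProduct.includeLeft
  let i₁ : S₁ →ₐ[R] T := Algebra.TensorProduct.includeRight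
  let f₀ : S₀ →ₐ[R] S' := (IsScalarTower.toAlgHom R S S').comp (IsScalarTower.toAlgHom R S₀ S)
  let f₁ : S₁ →ₐ[R] S' := IsScalarTower.toAlgHom R S₁ S'
  let φ : T →ₐ[R] S' := Algebra.TensorProduct.lift f₀ f₁ fun _ _ => Commute.all _ _
  have hφ₀ : ∀ x, φ (i₀ x) = f₀ x := fun x => by
    show φ (x ⊗ₜ[R] 1) = _
    rw [Algebra.TensorProduct.lift_tmul, map_one, mul_one]
  have hφ₁ : ∀ y, φ (i₁ y) = algebraMap S₁ S' y := fun y => by
    show φ (1 ⊗ₜ[R] y) = _
    rw [Algebra.TensorProduct.lift_tmul, map_one, one_mul]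
    rfl
  obtain ⟨gen, hgen⟩ := (inferInstance : Algebra.FiniteType R S₀).out
  choose am ham using fun x : S₀ => IsLocalization.surj M₁ (f₀ x)
  let rel : S₀ → T := fun x => i₀ x * i₁ ((am x).2 : S₁) - i₁ (am x).1
  let J : Ideal T := Ideal.span ((gen.image rel : Finset T) : Set T)
  have hJφ : ∀ t ∈ J, φ t = 0 := by
    intro t ht
    have : J ≤ RingHom.ker φ := Ideal.span_le.mpr (by
      intro t ht
      obtain ⟨x, -, rfl⟩ := Finset.mem_image.mp (Finset.mem_coe.mp ht)
      rw [SetLike.mem_coe, RingHom.mem_ker]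
      simp only [rel, map_sub, map_mul, hφ₀, hφ₁, ham, sub_self])
    exact this ht
  let C := T ⧸ J
  let φ' : C →ₐ[R] S' := Ideal.Quotient.liftₐ J φ hJφ
  letI : Algebra C S' := φ'.toRingHom.toAlgebra
  let jC : S₁ →ₐ[R] C := (Ideal.Quotient.mkₐ R J).comp i₁
  let M : Submonoid C := M₁.map jC
  haveI : Algebra.FinitePresentation R T := Algebra.FinitePresentation.trans R S₀ T
  haveI : Algebra.FinitePresentation R C := Algebra.FinitePresentation.quotient ⟨_, rfl⟩
  have hφ' : ∀ y, algebraMap C S' (jC y) = algebraMap S₁ S' y := fun y => hφ₁ y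
  -- every element of `C` comes from `S₁` up to `M`
  have hkey : ∀ c : C, ∃ m ∈ M₁, ∃ y, jC m * c = jC y := by
    intro c
    obtain ⟨t, rfl⟩ := Ideal.Quotient.mk_surjective c
    induction t using TensorProduct.induction_on with
    | zero => exact ⟨1, one_mem _, 0, by simp⟩
    | add a b ha hb =>
      obtain ⟨m, hm, y, hy⟩ := ha
      obtain ⟨m', hm', y', hy'⟩ := hb
      refine ⟨m * m', mul_mem hm hm', m' * y + m * y', ?_⟩
      rw [map_add, map_add, map_mul, map_mul, map_mul, ← hy, ← hy']
      ring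
    | tmul x y =>
      have hx : x ∈ Algebra.adjoin R (gen : Set S₀) := hgen ▸ Algebra.mem_top
      suffices h : ∃ m ∈ M₁, ∃ y, jC m * Ideal.Quotient.mk J (i₀ x) = jC y by
        obtain ⟨m, hm, y', hy'⟩ := h
        refine ⟨m, hm, y' * y, ?_⟩
        rw [show x ⊗ₜ[R] y = i₀ x * i₁ y from (show _ = (x ⊗ₜ[R] (1 : S₁)) * ((1 : S₀) ⊗ₜ[R] y) by rw [Algebra.TensorProduct.tmul_mul_tmul, mul_one, one_mul]), map_mul (Ideal.Quotient.mk J), ← mul_assoc, hy',
          map_mul jC]
        rfl
      induction hx using Algebra.adjoin_induction with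
      | mem x hx =>
        refine ⟨(am x).2, (am x).2.2, (am x).1, ?_⟩
        show Ideal.Quotient.mk J (i₁ _) * Ideal.Quotient.mk J (i₀ x) = Ideal.Quotient.mk J (i₁ _)
        rw [← map_mul, Ideal.Quotient.eq, mul_comm]
        exact Ideal.subset_span (Finset.mem_coe.mpr (Finset.mem_image_of_mem rel hx))
      | algebraMap r =>
        refine ⟨1, one_mem _, algebraMap R S₁ r, ?_⟩
        rw [map_one, one_mul, AlgHom.commutes, AlgHom.commutes]
        rfl
      | add x x' _ _ hx hx' =>
        obtain ⟨m, hm, y, hy⟩ := hx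
        obtain ⟨m', hm', y', hy'⟩ := hx'
        refine ⟨m * m', mul_mem hm hm', m' * y + m * y', ?_⟩
        rw [map_add i₀, map_add, map_add jC, map_mul, map_mul, map_mul, ← hy, ← hy']
        ring
      | mul x x' _ _ hx hx' =>
        obtain ⟨m, hm, y, hy⟩ := hx
        obtain ⟨m', hm', y', hy'⟩ := hx'
        refine ⟨m * m', mul_mem hm hm', y * y', ?_⟩
        rw [map_mul jC, map_mul jC, ← hy, ← hy', map_mul i₀, map_mul]
        ring
  haveI : IsLocalization M S' := by
    refine ⟨⟨?_, fun z => ?_, fun {c c'} h => ?_⟩⟩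
    · rintro ⟨_, m, hm, rfl⟩
      show IsUnit (algebraMap C S' (jC m))
      rw [hφ']
      exact IsLocalization.map_units S' (⟨m, hm⟩ : M₁)
    · obtain ⟨⟨a, m⟩, h⟩ := IsLocalization.surj M₁ z
      refine ⟨⟨jC a, ⟨_, m, m.2, rfl⟩⟩, ?_⟩
      show z * algebraMap C S' (jC m) = algebraMap C S' (jC a)
      rw [hφ', hφ']
      exact h
    · obtain ⟨m, hm, y, hy⟩ := hkey (c - c')
      have h0 : algebraMap S₁ S' y = 0 := by
        rw [← hφ', ← hy, map_mul, map_sub, h, sub_self, mul_zero]
      obtain ⟨⟨m', hm'⟩, h'⟩ := (IsLocalization.map_eq_zero_iff M₁ S' y).mp h0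
      refine ⟨⟨jC (m' * m), _, mul_mem hm' hm, rfl⟩, ?_⟩
      show jC (m' * m) * c = jC (m' * m) * c'
      rw [← sub_eq_zero, ← mul_sub, map_mul, mul_assoc, hy, ← map_mul, h', map_zero]
  haveI : IsScalarTower R S₀ C := inferInstanceAs (IsScalarTower R S₀ (T ⧸ J))
  exact ⟨C, inferInstance, inferInstance, inferInstance, inferInstance, inferInstance, M, ‹_›, ‹_›,
    fun x => hφ₀ x⟩

/-- A finitely presented module over a localisation comes from one over the ring. -/
theorem exists_module_model {C S' : Type u} [CommRing C] [CommRing S'] [Algebra C S'] (M : Submonoid C)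
    [IsLocalization M S'] (X : Type u) [AddCommGroup X] [Module S' X] [Module C X] [IsScalarTower C S' X]
    [Module.FinitePresentation S' X] :
    ∃ (M₀ : Type u) (_ : AddCommGroup M₀) (_ : Module C M₀) (l : M₀ →ₗ[C] X),
      Module.FinitePresentation C M₀ ∧ IsLocalizedModule M l := by
  classical
  obtain ⟨n, m, π, a, hπ, hex⟩ := Module.FinitePresentation.exists_fin' (R := S') (M := X)
  let alg : (Fin n → C) →ₗ[C] (Fin n → S') :=
    LinearMap.pi fun i => (Algebra.linearMap C S').comp (LinearMap.proj i)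
  haveI : IsLocalizedModule M alg := inferInstance
  choose rs hrs using fun v : Fin m => IsLocalizedModule.surj M alg (a (Pi.single v 1))
  let N : Submodule C (Fin n → C) := Submodule.span C (Set.range fun v => (rs v).1)
  have hN : N.localized' S' M alg = LinearMap.ker π := by
    rw [Submodule.localized'_span, LinearMap.exact_iff.mp hex, ← Set.range_comp]
    refine le_antisymm (Submodule.span_le.mpr ?_) ?_
    · rintro _ ⟨v, rfl⟩
      show alg (rs v).1 ∈ LinearMap.range a
      rw [← hrs v, Submonoid.smul_def, ← algebraMap_smul S' ((rs v).2 : C), ← map_smul]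
      exact LinearMap.mem_range_self _ _
    · rintro _ ⟨y, rfl⟩
      rw [pi_eq_sum_univ' y, map_sum]
      refine sum_mem fun v _ => ?_
      rw [map_smul]
      refine Submodule.smul_mem _ _ ?_
      obtain ⟨w, hw⟩ := IsLocalization.map_units S' (rs v).2
      have h1 : a (Pi.single v 1) = (↑w⁻¹ : S') • alg (rs v).1 := by
        rw [← hrs v, Submonoid.smul_def, ← algebraMap_smul S' ((rs v).2 : C), ← hw, smul_smul, Units.inv_mul, one_smul]
      rw [h1]
      exact Submodule.smul_mem _ _ (Submodule.subset_span ⟨v, rfl⟩)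
  let e : ((Fin n → S') ⧸ N.localized' S' M alg) ≃ₗ[C] X :=
    ((Submodule.quotEquivOfEq _ _ hN).trans (π.quotKerEquivOfSurjective hπ)).restrictScalars C
  refine ⟨(Fin n → C) ⧸ N, inferInstance, inferInstance, e.toLinearMap ∘ₗ N.toLocalizedQuotient' S' M alg, ?_,
    IsLocalizedModule.of_linearEquiv M _ e⟩
  exact Module.finitePresentation_of_surjective N.mkQ (Submodule.mkQ_surjective _)
    (by rw [Submodule.ker_mkQ]; exact Submodule.fg_span (Set.finite_range _))

end Groth.Agent.H21.EssFP.Model
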